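import Groth.Agent.BlowPerf.Global
import Groth.Agent.GeomLoc.CM
import Groth.Agent.Gor.LCI
import Groth.Agent.AlgSpEN.RegKinds
import Groth.Agent.S2092

/-!
# Complete intersections in Cohen–Macaulay rings
-/

set_option autoImplicit false
set_option linter.style.haveILetI false

universe u

open RingTheory.Sequence
open scoped Pointwise

namespace Groth.Agent.BlowCM43

/-- A Cohen–Macaulay module stays so modulo a regular sequence in the maximal ideal. -/
theorem cm_module_quot {R : Type u} [CommRing R] [IsLocalRing R] [IsNoetherianRing R] :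
    ∀ (rs : List R) {M : Type u} [AddCommGroup M] [Module R M] [Module.Finite R M],
      IsWeaklyRegular M rs → (∀ r ∈ rs, r ∈ IsLocalRing.maximalIdeal R) → LocCoh.IsCohenMacaulayModule R M →
        LocCoh.IsCohenMacaulayModule R (M ⧸ (Ideal.ofList rs • ⊤ : Submodule R M)) := by
  intro rs
  induction rs with
  | nil =>
    intro M _ _ _ _ _ hM
    exact (Depth.isCohenMacaulayModule_congr (Submodule.quotEquivOfEqBot _ (by simp))).2 hM
  | cons r rs ih =>
    intro M _ _ _ hreg hmem hM
    obtain ⟨h1, h2⟩ := (isWeaklyRegular_cons_iff M r rs).1 hreg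
    have h3 := (Depth.isCohenMacaulayModule_quotSMulTop_iff (hmem r List.mem_cons_self) h1).2 hM
    exact (Depth.isCohenMacaulayModule_congr (Submodule.quotOfListConsSMulTopEquivQuotSMulTopInner M r rs)).2
      (ih h2 (fun x hx => hmem x (List.mem_cons_of_mem _ hx)) h3)

/-- A quotient of a Cohen–Macaulay ring by a Koszul-regular sequence is Cohen–Macaulay. -/
theorem cm_quotient_seq {P : Type u} [CommRing P] [LocCoh.IsCohenMacaulayRing P]
    (l : List P) (hl : LCI.IsKoszulRegularSeq P l) :
    LocCoh.IsCohenMacaulayRing (P ⧸ Ideal.ofList l) := by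
  refine ⟨fun Q hQ => ?_⟩
  let Q' : Ideal P := Q.comap (Ideal.Quotient.mk (Ideal.ofList l))
  let L := Localization.AtPrime Q'
  haveI : IsNoetherianRing L := IsLocalization.isNoetherianRing Q'.primeCompl L inferInstance
  haveI : LocCoh.IsCohenMacaulayLocalRing L :=
    LocCoh.IsCohenMacaulayRing.isCohenMacaulayLocalRing_localization Q'
  let φ := algebraMap P L
  have hmem : ∀ x ∈ Ideal.ofList l, φ x ∈ IsLocalRing.maximalIdeal L := fun x hx => by
    rw [IsLocalization.AtPrime.to_map_mem_maximal_iff L Q', Ideal.mem_comap,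
      Ideal.Quotient.eq_zero_iff_mem.2 hx]
    exact Q.zero_mem
  have hq : CAlgX.IsQuasiRegular fun i => φ (l.get i) :=
    CAlg48.QRBase.isQuasiRegular_of_flat (f := l.get) (AlgSpEN.seq_quasi_of_h1 (AlgSpEN.seq_h1_of_koszul hl))
  have hjac : ∀ i, φ (l.get i) ∈ Ring.jacobson L := fun i => by
    rw [IsLocalRing.ringJacobson_eq_maximalIdeal]
    exact hmem _ (Ideal.subset_span (List.get_mem l i))
  have hw : IsWeaklyRegular L (l.map φ) := by
    have h0 := S5803.result L l.length _ hjac hq
    rwa [show List.ofFn (fun i => φ (l.get i)) = l.map φ by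
      exact (List.map_ofFn (f := l.get) (g := φ)).symm.trans (congrArg (List.map φ) (List.ofFn_get l))] at h0
  have hCM := cm_module_quot (l.map φ) hw (fun r hr => by
    obtain ⟨x, hx, rfl⟩ := List.mem_map.1 hr
    exact hmem x (Ideal.subset_span hx)) (Depth.isCohenMacaulayModule_self L)
  let J : Ideal L := (Ideal.ofList l).map φ
  haveI : Nontrivial (L ⧸ J) := Ideal.Quotient.nontrivial_iff.2 (ne_top_of_le_ne_top
    (IsLocalRing.maximalIdeal.isMaximal L).ne_top (Ideal.map_le_iff_le_comap.2 hmem))
  haveI : IsLocalRing (L ⧸ J) := IsLocalRing.of_surjective' (Ideal.Quotient.mk J) Ideal.Quotient.mk_surjective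
  have hmod : LocCoh.IsCohenMacaulayModule L (L ⧸ J) :=
    (Depth.isCohenMacaulayModule_congr (Submodule.quotEquivOfEq _ J (by
      change Ideal.ofList (l.map φ) • (⊤ : Ideal L) = (Ideal.ofList l).map φ
      rw [smul_eq_mul, Ideal.mul_top, Ideal.map_ofList]))).1 hCM
  have hloc : LocCoh.IsCohenMacaulayLocalRing (L ⧸ J) :=
    Depth.isCohenMacaulayLocalRing_iff.2 ((Depth.isCohenMacaulayModule_iff_of_surjective (R := L) (S := L ⧸ J)
      Ideal.Quotient.mk_surjective).2 hmod)
  haveI := Gor.LCI.isLocalization_quotient_atPrime (Ideal.ofList l) Q L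
  exact GeomLoc.isCohenMacaulayLocalRing_congr _ _
    (IsLocalization.algEquiv Q.primeCompl (L ⧸ J) (Localization.AtPrime Q)).toRingEquiv hloc

end Groth.Agent.BlowCM43
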